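import Groth.Agent.H17.AssPts
import Groth.Agent.H29Ref.DepthCriterion
import Groth.Agent.H26ZClos.Universal
import Groth.Agent.H26ZClos.Closure
import Groth.Agent.H26ZClos.Crit
import Groth.Agent.H06Mod.StalkFinite
import Groth.Agent.H4Depth.LocDepth
import Groth.Agent.H4Depth.DepthLemmas
import Groth.Agent.H10Coh.QcqsPush
import Groth.Agent.H10Coh.QCohExt
import Mathlib

/-!
# Purity, closedness along a stable subset and depth
-/

set_option autoImplicit false
set_option linter.style.haveILetI false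
universe u

open CategoryTheory CategoryTheory.Limits AlgebraicGeometry TopologicalSpace Opposite

namespace Groth.Agent.H17.ZDepth

open Groth.Agent.H26ZClos Groth.Agent.H17.AssPts IsLocalRing

variable {X : Scheme.{u}}

/-- `ρ` on stalks, linearly. -/
noncomputable abbrev rhoL (Z : Set X) (F : X.Modules) (x : X) :=
  RefHull.stalkMapₗ (ZClos.rhoApp Z F) x

theorem isZPureAt_iff_rhoL (Z : Set X) (F : X.Modules) (x : X) :
    ZClos.IsZPureAt Z F x ↔ Function.Injective (rhoL Z F x) := Iff.rfl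

theorem isZClosedAt_iff_rhoL (Z : Set X) (F : X.Modules) (x : X) :
    ZClos.IsZClosedAt Z F x ↔ Function.Bijective (rhoL Z F x) := Iff.rfl

theorem isQCoh_H0 [IsLocallyNoetherian X] (Z : Set X) (F : X.Modules) (hF : Coh.IsQCoh F) :
    Coh.IsQCoh ((ZClos.H0 Z).obj F) := by
  haveI : F.IsQuasicoherent := hF
  refine H10Coh.isQuasicoherent_colimit ((ZClos.diagram Z).obj F) fun T => ?_
  haveI := Scheme.Modules.isQuasicoherent_restrictFunctor T.U.ι F
  exact H10Coh.isQuasicoherent_pushforward T.U.ι _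

theorem germ_spec_mod (M : X.Modules) {U : X.Opens} {x z : X} (h : z ⤳ x) (hx : x ∈ U) (s : Γ(M, U)) :
    M.presheaf.stalkSpecializes h (M.presheaf.germ U x hx s) = M.presheaf.germ U z (h.mem_open U.2 hx) s :=
  TopCat.Presheaf.germ_stalkSpecializes_apply M.presheaf hx h s

theorem germ_spec_ring {U : X.Opens} {x z : X} (h : z ⤳ x) (hx : x ∈ U) (s : Γ(X, U)) :
    X.presheaf.stalkSpecializes h (X.presheaf.germ U x hx s) = X.presheaf.germ U z (h.mem_open U.2 hx) s :=
  TopCat.Presheaf.germ_stalkSpecializes_apply X.presheaf hx h s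

/-- Multiples of elements of stalks by units are germs of sections. -/
theorem exists_smul_germ_ring {V : X.Opens} (hV : IsAffineOpen V) {x : X} (hx : x ∈ V)
    (a : X.presheaf.stalk x) :
    ∃ t a₀ : Γ(X, V), x ∈ X.basicOpen t ∧
      X.presheaf.germ V x hx t * a = X.presheaf.germ V x hx a₀ := by
  letI := TopCat.Presheaf.algebra_section_stalk X.presheaf (⟨x, hx⟩ : V)
  haveI := hV.isLocalization_stalk ⟨x, hx⟩
  obtain ⟨⟨a₀, t⟩, hat⟩ := IsLocalization.surj (hV.primeIdealOf ⟨x, hx⟩).asIdeal.primeCompl a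
  exact ⟨t.1, a₀, (isUnit_germ_iff hx t.1).1 (IsLocalization.map_units (X.presheaf.stalk x) t),
    (mul_comm _ _).trans hat⟩

theorem germ_mem_maximal_iff {V : X.Opens} (hV : IsAffineOpen V) {x : X} (hx : x ∈ V) (r : Γ(X, V)) :
    X.presheaf.germ V x hx r ∈ maximalIdeal (X.presheaf.stalk x) ↔
      r ∈ (hV.primeIdealOf ⟨x, hx⟩).asIdeal := by
  rw [mem_maximalIdeal, mem_nonunits_iff, isUnit_germ_iff hx, mem_primeIdealOf hV hx]

theorem mem_basicOpen_mul {V : X.Opens} {x : X} {a b : Γ(X, V)} (ha : x ∈ X.basicOpen a)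
    (hb : x ∈ X.basicOpen b) : x ∈ X.basicOpen (a * b) := by
  rw [Scheme.basicOpen_mul]; exact ⟨ha, hb⟩

/-- A witness, on a given affine open, of an associated point. -/
theorem exists_witness [IsLocallyNoetherian X] (F : X.Modules) (hF : Coh.IsQCoh F) {V : X.Opens}
    (hV : IsAffineOpen V) {z : X} (hzV : z ∈ V) (hz : z ∈ AssSch.Ass F) :
    ∃ s : Γ(F, V), F.presheaf.germ V z hzV s ≠ 0 ∧
      ∀ r ∈ (hV.primeIdealOf ⟨z, hzV⟩).asIdeal, ∃ n : ℕ, r ^ n • s = 0 := by
  classical
  haveI : IsNoetherianRing Γ(X, V) := IsLocallyNoetherian.component_noetherian ⟨V, hV⟩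
  obtain ⟨-, m, hm⟩ := hz
  have hm0 : m ≠ 0 := fun h0 => by
    subst h0
    exact (maximalIdeal.isMaximal (X.presheaf.stalk z)).ne_top
      (hm.trans (Ideal.radical_eq_top.2 (by ext; simp [Submodule.mem_colon_singleton])))
  obtain ⟨t, s₀, ht, hts⟩ := exists_smul_germ_eq F hF hV hzV m
  obtain ⟨G, hG⟩ := IsNoetherian.noetherian (hV.primeIdealOf ⟨z, hzV⟩).asIdeal
  have hk : ∀ r : G, ∃ (u : Γ(X, V)) (n : ℕ), z ∈ X.basicOpen u ∧ r.1 ^ n • (u • s₀) = 0 := by
    intro r
    have hmem := (germ_mem_maximal_iff hV hzV r.1).2 (hG ▸ Submodule.subset_span r.2)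
    rw [hm] at hmem
    obtain ⟨n, hn⟩ := hmem
    rw [Submodule.mem_colon_singleton, Submodule.mem_bot] at hn
    obtain ⟨u, hu, hus⟩ := exists_smul_eq_zero_of_germ F hF hV hzV (s := r.1 ^ n • s₀) (by
      rw [germ_smul', map_pow, ← hts, smul_comm, hn, smul_zero])
    exact ⟨u, n, hu, by rw [smul_comm]; exact hus⟩
  choose u n hu hus using hk
  have hU : IsUnit (X.presheaf.germ V z hzV (∏ r : G, u r)) := by
    rw [map_prod]; exact IsUnit.prod_iff.2 fun r _ => (isUnit_germ_iff hzV _).2 (hu r)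
  refine ⟨(∏ r : G, u r) • s₀, ?_, ?_⟩
  · rw [germ_smul', ← hts]
    exact fun h => hm0 (((isUnit_germ_iff hzV t).2 ht).smul_eq_zero.1 (hU.smul_eq_zero.1 h))
  · have hle : (hV.primeIdealOf ⟨z, hzV⟩).asIdeal ≤
        Ideal.radical (LinearMap.ker (LinearMap.toSpanSingleton Γ(X, V) Γ(F, V) ((∏ r : G, u r) • s₀))) := by
      rw [← hG, Submodule.span_le]
      intro r hr
      refine ⟨n ⟨r, hr⟩, ?_⟩
      rw [LinearMap.mem_ker, LinearMap.toSpanSingleton_apply,
        ← Finset.mul_prod_erase Finset.univ u (Finset.mem_univ ⟨r, hr⟩), mul_comm _ (Finset.prod _ _),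
        mul_smul, smul_comm, hus ⟨r, hr⟩, smul_zero]
    intro r hr
    obtain ⟨k, hk⟩ := hle hr
    exact ⟨k, by simpa using hk⟩

/-- The prime of an associated generization is associated to the stalk. -/
theorem mem_associatedPrimes_stalk [IsLocallyNoetherian X] (F : X.Modules) (hF : Coh.IsQCoh F)
    {z x : X} (hz : z ∈ AssSch.Ass F) (h : z ⤳ x) :
    (maximalIdeal (X.presheaf.stalk z)).comap (X.presheaf.stalkSpecializes h).hom ∈
      associatedPrimes (X.presheaf.stalk x) (F.presheaf.stalk x) := by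
  obtain ⟨V, hV, hxV, -⟩ := exists_isAffineOpen_mem_and_subset (U := (⊤ : X.Opens)) (x := x) trivial
  obtain ⟨s, hs, hsk⟩ := exists_witness F hF hV (h.mem_open V.2 hxV) hz
  have hp : ((maximalIdeal (X.presheaf.stalk z)).comap (X.presheaf.stalkSpecializes h).hom).IsPrime :=
    Ideal.IsPrime.comap _
  refine ⟨hp, F.presheaf.germ V x hxV s, le_antisymm (fun a ha => ?_) ?_⟩
  · obtain ⟨t, a₀, ht, hta⟩ := exists_smul_germ_ring hV hxV a
    have ha₀ : a₀ ∈ (hV.primeIdealOf ⟨z, h.mem_open V.2 hxV⟩).asIdeal := by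
      rw [← germ_mem_maximal_iff hV (h.mem_open V.2 hxV), ← germ_spec_ring h hxV, ← hta, map_mul]
      exact Ideal.mul_mem_left _ _ ha
    obtain ⟨n, hn⟩ := hsk a₀ ha₀
    refine ⟨n, ?_⟩
    rw [Submodule.mem_colon_singleton, Submodule.mem_bot]
    have h1 := congrArg (F.presheaf.germ V x hxV) hn
    rw [germ_smul', map_pow, ← hta, mul_pow, mul_smul, map_zero] at h1
    exact (((isUnit_germ_iff hxV t).2 ht).pow n).smul_eq_zero.1 h1
  · refine Ideal.radical_le_radical_iff.2 (fun a ha => ?_) |>.trans_eq hp.radical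
    rw [Submodule.mem_colon_singleton, Submodule.mem_bot] at ha
    refine Ideal.le_radical ?_
    obtain ⟨t, a₀, ht, hta⟩ := exists_smul_germ_ring hV hxV a
    have h1 : F.presheaf.germ V x hxV (a₀ • s) = 0 := by
      rw [germ_smul', ← hta, mul_smul, ha, smul_zero]
    have h2 := congrArg (F.presheaf.stalkSpecializes h) h1
    rw [germ_spec_mod, map_zero, germ_smul', ← germ_spec_ring h hxV, ← hta, map_mul, mul_smul] at h2
    rw [Ideal.mem_comap, mem_maximalIdeal, mem_nonunits_iff]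
    intro hu
    exact hs (hu.smul_eq_zero.1 (((((isUnit_germ_iff hxV t).2 ht).map
      (X.presheaf.stalkSpecializes h).hom)).smul_eq_zero.1 h2))

/-- The closure of a point of `Z` as a member of the index. -/
def clPoint {Z : Set X} (hZ : StableUnderSpecialization Z) {z : X} (hz : z ∈ Z) : ZClos.Cl Z :=
  ⟨⟨closure {z}, isClosed_closure⟩, fun _ hy => hZ (specializes_iff_mem_closure.2 hy) hz⟩

theorem mem_clPoint_U {Z : Set X} (hZ : StableUnderSpecialization Z) {z : X} (hz : z ∈ Z) {y : X} :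
    y ∈ (clPoint hZ hz).U ↔ ¬ z ⤳ y :=
  (specializes_iff_mem_closure.symm).not

theorem rho_app_eq_zero {Z : Set X} (F : X.Modules) (T : ZClos.Cl Z) {V : X.Opens} (s : Γ(F, V))
    (h : res F (inf_le_left : V ⊓ T.U ≤ V) s = 0) : (ZClos.rhoApp Z F).app V s = 0 := by
  rw [ZClos.rhoApp_eq Z F T]
  show (colimit.ι ((ZClos.diagram Z).obj F) T).app V ((ZClos.toDiagram Z F T).app V s) = 0
  rw [toDiagram_app]
  have h2 : res F (T.U.ι.image_preimage_le V) s = 0 := by
    rw [← res_res F (inf_le_left : V ⊓ T.U ≤ V) (ι_image_preimage' _ _).le, h, res_zero]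
  exact (congrArg (fun w => (colimit.ι ((ZClos.diagram Z).obj F) T).app V w) h2).trans
    (map_zero ((colimit.ι ((ZClos.diagram Z).obj F) T).app V).hom)

/-- A quasi-coherent module is pure at a point iff none of its associated points specializing to
the point lies in `Z`. -/
theorem isZPureAt_iff_ass [IsLocallyNoetherian X] {Z : Set X} (hZ : StableUnderSpecialization Z)
    (F : X.Modules) (hF : Coh.IsQCoh F) (x : X) :
    ZClos.IsZPureAt Z F x ↔ ∀ z ∈ AssSch.Ass F, z ⤳ x → z ∉ Z := by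
  rw [isZPureAt_iff_rhoL]
  obtain ⟨V, hV, hxV, -⟩ := exists_isAffineOpen_mem_and_subset (U := (⊤ : X.Opens)) (x := x) trivial
  constructor
  · intro hinj z hz hzx hzZ
    have hzV : z ∈ V := hzx.mem_open V.2 hxV
    obtain ⟨s, hs, hsk⟩ := exists_witness F hF hV hzV hz
    have h0 : res F (inf_le_left : V ⊓ (clPoint hZ hzZ).U ≤ V) s = 0 := by
      refine TopCat.Presheaf.section_ext ⟨F.presheaf, F.isSheaf⟩ _ _ _ fun y hy => ?_
      refine ((TopCat.Presheaf.germ_res_apply F.presheaf (homOfLE inf_le_left) y hy s).trans ?_).trans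
        (map_zero _).symm
      have hny := (mem_clPoint_U hZ hzZ).1 hy.2
      obtain ⟨r, hr, hry⟩ := SetLike.not_le_iff_exists.1
        (mt (H29Blow.primeIdealOf_le_iff hV ⟨z, hzV⟩ ⟨y, hy.1⟩).1 hny)
      obtain ⟨n, hn⟩ := hsk r hr
      have hu : IsUnit (X.presheaf.germ V y hy.1 r) := (isUnit_germ_iff hy.1 r).2 (by
        by_contra hc; exact hry ((mem_primeIdealOf hV hy.1 r).2 hc))
      have h1 := congrArg (F.presheaf.germ V y hy.1) hn
      rw [germ_smul', map_pow, map_zero] at h1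
      exact (hu.pow n).smul_eq_zero.1 h1
    have h1 : F.presheaf.germ V x hxV s = 0 := hinj (by
      rw [map_zero, RefHull.stalkMapₗ_germ, rho_app_eq_zero F _ s h0, map_zero])
    have h2 := congrArg (F.presheaf.stalkSpecializes hzx) h1
    rw [germ_spec_mod, map_zero] at h2
    exact hs h2
  · intro h
    refine (injective_iff_map_eq_zero _).2 fun m hm => ?_
    obtain ⟨t, s, ht, hts⟩ := exists_smul_germ_eq F hF hV hxV m
    by_contra hm0
    have hs : F.presheaf.germ V x hxV s ≠ 0 := fun h0 =>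
      hm0 (((isUnit_germ_iff hxV t).2 ht).smul_eq_zero.1 (hts.trans h0))
    obtain ⟨z, hzV, hz, hzx, hsz⟩ := exists_ass_specializes_of_germ F hF hV hxV hs
    refine hsz ((rhoStalk_bijective F (h z hz hzx)).1 ?_)
    show rhoL Z F z (F.presheaf.germ V z hzV s) = rhoL Z F z 0
    rw [map_zero, RefHull.stalkMapₗ_germ, ← germ_spec_mod _ hzx hxV,
      ← RefHull.stalkMapₗ_germ (ZClos.rhoApp Z F) x hxV s, ← hts, map_smul, hm, smul_zero, map_zero]

/-- `ρ` is bijective on stalks for closed modules. -/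
theorem isZClosedAt_of_isZClosed {Z : Set X} (F : X.Modules) (h : ZClos.IsZClosed Z F) (x : X) :
    ZClos.IsZClosedAt Z F x := by
  haveI : IsIso (ZClos.rhoApp Z F) := h
  exact (ConcreteCategory.isIso_iff_bijective _).1
    (inferInstanceAs (IsIso ((stalkFun x).map (ZClos.rhoApp Z F))))

theorem ass_notMem_of_closed [IsLocallyNoetherian X] {Z : Set X} (hZ : StableUnderSpecialization Z)
    (G : X.Modules) (hG : Coh.IsQCoh G) (hc : ZClos.IsZClosed Z G) {z : X} (hz : z ∈ AssSch.Ass G) :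
    z ∉ Z :=
  (isZPureAt_iff_ass hZ G hG z).1 (isZClosedAt_of_isZClosed G hc z).1 z hz (specializes_refl z)

theorem ass_H0_notMem [IsLocallyNoetherian X] {Z : Set X} (hZ : StableUnderSpecialization Z)
    (F : X.Modules) (hF : Coh.IsQCoh F) {z : X} (hz : z ∈ AssSch.Ass ((ZClos.H0 Z).obj F)) : z ∉ Z :=
  ass_notMem_of_closed hZ _ (isQCoh_H0 Z F hF) (isZClosed_H0 F) hz

theorem one_le_depth_iff {R : Type u} [CommRing R] [IsLocalRing R] [IsNoetherianRing R] (M : Type u)
    [AddCommGroup M] [Module R M] [Module.Finite R M] :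
    (1 : ℕ∞) ≤ LocCoh.depth R M ↔ maximalIdeal R ∉ associatedPrimes R M := by
  by_cases hM : Nontrivial M
  · have hne := H4Depth.maximalIdeal_smul_top_ne_top (R := R) (M := M)
    rw [← not_iff_not, not_not, not_le, ENat.lt_one_iff_eq_zero]
    refine (H4Depth.idealDepth_eq_zero_iff_exists_associatedPrime hne).trans ⟨?_, fun h => ⟨_, h, le_rfl⟩⟩
    rintro ⟨p, hp, hle⟩
    rwa [(maximalIdeal.isMaximal R).eq_of_le (hp.isPrime).ne_top hle]
  · haveI := not_nontrivial_iff_subsingleton.1 hM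
    refine iff_of_true ?_ fun hp => ?_
    · rw [LocCoh.depth, LocCoh.idealDepth, if_pos (Subsingleton.elim _ _)]; exact le_top
    · rw [associatedPrimes.eq_empty_of_subsingleton] at hp; exact hp

theorem finite_stalk [IsLocallyNoetherian X] {F : X.Modules} (hF : Coh.IsCoh F) (x : X) :
    Module.Finite (X.presheaf.stalk x) (F.presheaf.stalk x) :=
  H06Mod.finite_stalk F hF.2 x

theorem one_le_depth_stalk_iff [IsLocallyNoetherian X] {F : X.Modules} (hF : Coh.IsCoh F) (x : X) :
    (1 : ℕ∞) ≤ LocCoh.depth (X.presheaf.stalk x) (F.presheaf.stalk x) ↔ x ∉ AssSch.Ass F := by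
  haveI := finite_stalk hF x
  exact one_le_depth_iff _

/-- Purity at a point is depth at least one at the generizations in `Z`. -/
theorem isZPureAt_iff_depth [IsLocallyNoetherian X] {Z : Set X} (hZ : StableUnderSpecialization Z)
    {F : X.Modules} (hF : Coh.IsCoh F) (x : X) :
    ZClos.IsZPureAt Z F x ↔ ∀ x' : X, x' ⤳ x → x' ∈ Z →
      (1 : ℕ∞) ≤ LocCoh.depth (X.presheaf.stalk x') (F.presheaf.stalk x') := by
  rw [isZPureAt_iff_ass hZ F hF.1 x]
  exact ⟨fun h x' h1 h2 => (one_le_depth_stalk_iff hF x').2 fun h3 => h x' h3 h1 h2,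
    fun h z h3 h1 h2 => (one_le_depth_stalk_iff hF z).1 (h z h1 h2) h3⟩

end Groth.Agent.H17.ZDepth
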