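import Groth.Agent.H17.ZDepth.Base

/-!
# Closedness along a stable subset is depth at least two
-/

set_option autoImplicit false
set_option linter.style.haveILetI false
set_option maxHeartbeats 400000
universe u

open CategoryTheory CategoryTheory.Limits AlgebraicGeometry TopologicalSpace Opposite

namespace Groth.Agent.H17.ZDepth

open Groth.Agent.H26ZClos Groth.Agent.H17.AssPts IsLocalRing

variable {X : Scheme.{u}}

theorem isSMulRegular_of {R M : Type u} [CommRing R] [AddCommGroup M] [Module R M] (a : R)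
    (h : ∀ e : M, a • e = 0 → e = 0) : IsSMulRegular M a := fun x y hxy =>
  sub_eq_zero.1 (h (x - y) (by rw [smul_sub, sub_eq_zero]; exact hxy))

variable [IsLocallyNoetherian X]

/-- Regularity of a section at a point spreads to a neighbourhood. -/
theorem exists_regular_nhd {F : X.Modules} (hF : Coh.IsCoh F) {V : X.Opens} (hV : IsAffineOpen V)
    {z : X} (hz : z ∈ V) (a₀ : Γ(X, V))
    (hreg : IsSMulRegular (F.presheaf.stalk z) (X.presheaf.germ V z hz a₀)) :
    ∃ k : Γ(X, V), z ∈ X.basicOpen k ∧ ∀ (w : X) (hw : w ∈ V), w ∈ X.basicOpen k →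
      IsSMulRegular (F.presheaf.stalk w) (X.presheaf.germ V w hw a₀) := by
  classical
  haveI : IsNoetherianRing Γ(X, V) := IsLocallyNoetherian.component_noetherian ⟨V, hV⟩
  haveI : Module.Finite Γ(X, V) Γ(F, V) := @H10Coh.finite_sections _ F hF.1 hF.2 _ hV
  obtain ⟨G, hG⟩ := IsNoetherian.noetherian (LinearMap.ker (LinearMap.lsmul Γ(X, V) Γ(F, V) a₀))
  have hk : ∀ g : G, ∃ k : Γ(X, V), z ∈ X.basicOpen k ∧ k • g.1 = 0 := by
    intro g
    have hg : a₀ • g.1 = 0 := by simpa using hG.le (Submodule.subset_span g.2)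
    refine exists_smul_eq_zero_of_germ F hF.1 hV hz (hreg.right_eq_zero_of_smul ?_)
    rw [← germ_smul', hg, map_zero]
  choose k hk hkg using hk
  refine ⟨∏ g : G, k g, ?_, fun w hw hwk => isSMulRegular_of _ fun e he => ?_⟩
  · rw [← isUnit_germ_iff hz, map_prod]
    exact IsUnit.prod_iff.2 fun g _ => (isUnit_germ_iff hz _).2 (hk g)
  · obtain ⟨t, s, ht, hts⟩ := exists_smul_germ_eq F hF.1 hV hw e
    have h1 : F.presheaf.germ V w hw (a₀ • s) = 0 := by
      rw [germ_smul', ← hts, smul_comm, he, smul_zero]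
    obtain ⟨t', ht', hts'⟩ := exists_smul_eq_zero_of_germ F hF.1 hV hw h1
    have h2 : t' • s ∈ LinearMap.ker (LinearMap.lsmul Γ(X, V) Γ(F, V) a₀) := by
      rw [LinearMap.mem_ker, LinearMap.lsmul_apply, smul_comm, hts']
    have hle : LinearMap.ker (LinearMap.lsmul Γ(X, V) Γ(F, V) a₀) ≤
        LinearMap.ker (LinearMap.lsmul Γ(X, V) Γ(F, V) (∏ g : G, k g)) := by
      rw [← hG, Submodule.span_le]
      intro g hg
      rw [SetLike.mem_coe, LinearMap.mem_ker, LinearMap.lsmul_apply,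
        ← Finset.mul_prod_erase Finset.univ k (Finset.mem_univ ⟨g, hg⟩), mul_comm _ (Finset.prod _ _),
        mul_smul, hkg ⟨g, hg⟩, smul_zero]
    have h3 : ((∏ g : G, k g) * t') • s = 0 := by rw [mul_smul]; exact hle h2
    have h4 := germ_eq_zero_of_smul F hw (mem_basicOpen_mul hwk ht') h3
    rw [← hts] at h4
    exact ((isUnit_germ_iff hw t).2 ht).smul_eq_zero.1 h4

/-- A regular element of a coherent module stays regular on its closure. -/
theorem exists_regular_nhd_H0 {Z : Set X} (hZ : StableUnderSpecialization Z) {F : X.Modules}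
    (hF : Coh.IsCoh F) {V : X.Opens} (hV : IsAffineOpen V) {z : X} (hz : z ∈ V) (a₀ : Γ(X, V))
    (hreg : IsSMulRegular (F.presheaf.stalk z) (X.presheaf.germ V z hz a₀)) :
    ∃ k : Γ(X, V), z ∈ X.basicOpen k ∧ ∀ (y : X) (hy : y ∈ V), y ∈ X.basicOpen k →
      IsSMulRegular (((ZClos.H0 Z).obj F).presheaf.stalk y) (X.presheaf.germ V y hy a₀) := by
  obtain ⟨k, hk, hkr⟩ := exists_regular_nhd hF hV hz a₀ hreg
  refine ⟨k, hk, fun y hy hyk => isSMulRegular_of _ fun e he => ?_⟩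
  obtain ⟨t, s, ht, hts⟩ := exists_smul_germ_eq _ (isQCoh_H0 Z F hF.1) hV hy e
  by_contra he0
  have hs : ((ZClos.H0 Z).obj F).presheaf.germ V y hy s ≠ 0 := fun h0 =>
    he0 (((isUnit_germ_iff hy t).2 ht).smul_eq_zero.1 (hts.trans h0))
  obtain ⟨w, hwV, hw, hwy, hsw⟩ := exists_ass_specializes_of_germ _ (isQCoh_H0 Z F hF.1) hV hy hs
  have hbij := rhoStalk_bijective F (ass_H0_notMem hZ F hF.1 hw)
  obtain ⟨f, hf⟩ := hbij.2 (((ZClos.H0 Z).obj F).presheaf.germ V w hwV s)
  change rhoL Z F w f = _ at hf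
  have h1 : ((ZClos.H0 Z).obj F).presheaf.germ V y hy (a₀ • s) = 0 := by
    rw [germ_smul', ← hts, smul_comm, he, smul_zero]
  have h2 := congrArg (((ZClos.H0 Z).obj F).presheaf.stalkSpecializes hwy) h1
  rw [germ_spec_mod, map_zero, germ_smul', ← hf, ← map_smul] at h2
  have h3 : X.presheaf.germ V w hwV a₀ • f = 0 := hbij.1 (h2.trans (map_zero (rhoL Z F w)).symm)
  refine hsw ?_
  rw [← hf, (hkr w hwV (hwy.mem_open (X.basicOpen k).2 hyk)).right_eq_zero_of_smul h3, map_zero]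

omit [IsLocallyNoetherian X] in
/-- Dividing a section by a regular section is a local problem. -/
theorem exists_div (G : X.Modules) {W : X.Opens} (a : Γ(X, W)) (m : Γ(G, W))
    (hreg : ∀ (y : X) (hy : y ∈ W), IsSMulRegular (G.presheaf.stalk y) (X.presheaf.germ W y hy a))
    (hm : ∀ (y : X) (hy : y ∈ W), ∃ e, X.presheaf.germ W y hy a • e = G.presheaf.germ W y hy m) :
    ∃ e : Γ(G, W), a • e = m := by
  have key : ∀ y : W, ∃ (O : X.Opens) (h : O ≤ W) (e : Γ(G, O)), y.1 ∈ O ∧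
      X.presheaf.map (homOfLE h).op a • e = G.presheaf.map (homOfLE h).op m := by
    intro y
    obtain ⟨e, he⟩ := hm y.1 y.2
    obtain ⟨O, hO, e, rfl⟩ := G.presheaf.exists_germ_eq e
    have h1 : G.presheaf.germ (W ⊓ O) y.1 ⟨y.2, hO⟩
        (X.presheaf.map (homOfLE (inf_le_left : W ⊓ O ≤ W)).op a •
          G.presheaf.map (homOfLE (inf_le_right : W ⊓ O ≤ O)).op e) = G.presheaf.germ W y.1 y.2 m := by
      rw [germ_smul', TopCat.Presheaf.germ_res_apply, TopCat.Presheaf.germ_res_apply, he]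
    obtain ⟨O', hyO', i, j, h2⟩ := G.presheaf.germ_eq y.1 _ _ _ _ h1
    refine ⟨O', j.le, G.presheaf.map (homOfLE (i.le.trans inf_le_right)).op e, hyO', ?_⟩
    rw [Scheme.Modules.map_smul] at h2
    convert h2 using 2
    · rw [← ConcreteCategory.comp_apply, ← Functor.map_comp]; rfl
    · rw [← ConcreteCategory.comp_apply, ← Functor.map_comp]; rfl
    · rfl
  choose O hOW e hyO he using key
  have hcompat : TopCat.Presheaf.IsCompatible G.presheaf O e := by
    intro i j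
    refine TopCat.Presheaf.section_ext ⟨G.presheaf, G.isSheaf⟩ _ _ _ fun y hy => ?_
    show G.presheaf.germ _ y hy (G.presheaf.map _ (e i)) = G.presheaf.germ _ y hy (G.presheaf.map _ (e j))
    rw [TopCat.Presheaf.germ_res_apply, TopCat.Presheaf.germ_res_apply]
    refine hreg y (hOW i hy.1) ?_
    have hi := congrArg (G.presheaf.germ (O i) y hy.1) (he i)
    have hj := congrArg (G.presheaf.germ (O j) y hy.2) (he j)
    rw [germ_smul', TopCat.Presheaf.germ_res_apply, TopCat.Presheaf.germ_res_apply] at hi hj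
    exact hi.trans hj.symm
  obtain ⟨s, hs, -⟩ := TopCat.Sheaf.existsUnique_gluing' ⟨G.presheaf, G.isSheaf⟩ O W (fun i => homOfLE (hOW i))
    (fun y hy => Opens.mem_iSup.2 ⟨⟨y, hy⟩, hyO ⟨y, hy⟩⟩) e hcompat
  refine ⟨s, TopCat.Presheaf.section_ext ⟨G.presheaf, G.isSheaf⟩ _ _ _ fun y hy => ?_⟩
  show G.presheaf.germ W y hy (a • s) = G.presheaf.germ W y hy m
  have h1 := he ⟨y, hy⟩
  rw [← show G.presheaf.map (homOfLE (hOW ⟨y, hy⟩)).op s = e ⟨y, hy⟩ from hs ⟨y, hy⟩,
    ← Scheme.Modules.map_smul] at h1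
  rw [← TopCat.Presheaf.germ_res_apply G.presheaf (homOfLE (hOW ⟨y, hy⟩)) y (hyO _) (a • s), h1,
    TopCat.Presheaf.germ_res_apply]

/-- Bijectivity at a point of `Z` forbids classes modulo a regular element killed by the maximal ideal. -/
theorem exists_eq_smul_of_bijective {Z : Set X} (hZ : StableUnderSpecialization Z) {F : X.Modules}
    (hF : Coh.IsCoh F) {z : X} (hzZ : z ∈ Z) (hbij : ZClos.IsZClosedAt Z F z)
    {a : X.presheaf.stalk z} (hreg : IsSMulRegular (F.presheaf.stalk z) a) (c : F.presheaf.stalk z)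
    (hc : ∀ r ∈ maximalIdeal (X.presheaf.stalk z), ∃ e, r • c = a • e) :
    ∃ e, c = a • e := by
  classical
  obtain ⟨V, hV, hz, -⟩ := exists_isAffineOpen_mem_and_subset (U := (⊤ : X.Opens)) (x := z) trivial
  haveI : IsNoetherianRing Γ(X, V) := IsLocallyNoetherian.component_noetherian ⟨V, hV⟩
  obtain ⟨ta, a₀, hta, ha₀⟩ := exists_smul_germ_ring hV hz a
  obtain ⟨tc, m₀, htc, hm₀⟩ := exists_smul_germ_eq F hF.1 hV hz c
  obtain ⟨va, hva⟩ := ((isUnit_germ_iff hz ta).2 hta).exists_left_inv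
  have hreg₀ : IsSMulRegular (F.presheaf.stalk z) (X.presheaf.germ V z hz a₀) := by
    rw [← ha₀]; exact (((isUnit_germ_iff hz ta).2 hta).isSMulRegular _).mul hreg
  obtain ⟨G, hG⟩ := IsNoetherian.noetherian (hV.primeIdealOf ⟨z, hz⟩).asIdeal
  have hr : ∀ r : G, ∃ (u : Γ(X, V)) (s : Γ(F, V)), z ∈ X.basicOpen u ∧ (u * r.1) • m₀ = a₀ • s := by
    intro r
    obtain ⟨e, he⟩ := hc _ ((germ_mem_maximal_iff hV hz r.1).2 (hG ▸ Submodule.subset_span r.2))
    obtain ⟨te, s, hte, hs⟩ := exists_smul_germ_eq F hF.1 hV hz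
      (X.presheaf.germ V z hz tc • va • e)
    have h1 : F.presheaf.germ V z hz ((te * r.1) • m₀ - a₀ • s) = 0 := by
      rw [map_sub, germ_smul', germ_smul', ← hs, ← hm₀, map_mul, ← ha₀, sub_eq_zero, mul_smul,
        smul_comm (X.presheaf.germ V z hz r.1), he]
      simp only [smul_smul]
      congr 1
      linear_combination (-(X.presheaf.germ V z hz te * X.presheaf.germ V z hz tc * a)) * hva
    obtain ⟨u, hu, hus⟩ := exists_smul_eq_zero_of_germ F hF.1 hV hz h1
    refine ⟨u * te, u • s, mem_basicOpen_mul hu hte, ?_⟩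
    rw [smul_sub, sub_eq_zero, smul_smul, smul_comm] at hus
    rwa [mul_assoc]
  choose u s hu hus using hr
  obtain ⟨k, hk, hkr⟩ := exists_regular_nhd_H0 hZ hF hV hz a₀ hreg₀
  have hP : z ∈ X.basicOpen (∏ r : G, u r) := by
    rw [← isUnit_germ_iff hz, map_prod]
    exact IsUnit.prod_iff.2 fun r _ => (isUnit_germ_iff hz _).2 (hu r)
  let W : X.Opens := X.basicOpen (k * ∏ r : G, u r)
  have hWV : W ≤ V := X.basicOpen_le _
  have hzW : z ∈ W := mem_basicOpen_mul hk hP
  have hWk : ∀ y ∈ W, y ∈ X.basicOpen k ∧ y ∈ X.basicOpen (∏ r : G, u r) := fun y hy => by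
    have : y ∈ X.basicOpen (k * ∏ r : G, u r) := hy
    rwa [Scheme.basicOpen_mul] at this
  let T := clPoint hZ hzZ
  obtain ⟨e, he⟩ := exists_div ((ZClos.H0 Z).obj F) (W := W ⊓ T.U)
    (X.presheaf.map (homOfLE (inf_le_left.trans hWV)).op a₀)
    (((ZClos.H0 Z).obj F).presheaf.map (homOfLE (inf_le_left.trans hWV)).op
      ((ZClos.rhoApp Z F).app V m₀))
    (fun y hy => by
      rw [TopCat.Presheaf.germ_res_apply]; exact hkr y (hWV hy.1) (hWk y hy.1).1)
    (fun y hy => by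
      have hyV : y ∈ V := hWV hy.1
      have hnot : ¬ (hV.primeIdealOf ⟨z, hz⟩).asIdeal ≤ (hV.primeIdealOf ⟨y, hyV⟩).asIdeal :=
        mt (H29Blow.primeIdealOf_le_iff hV ⟨z, hz⟩ ⟨y, hyV⟩).1 ((mem_clPoint_U hZ hzZ).1 hy.2)
      rw [← hG, Submodule.span_le] at hnot
      obtain ⟨r, hrG, hry⟩ := Set.not_subset.1 hnot
      have hu' : IsUnit (X.presheaf.germ V y hyV (u ⟨r, hrG⟩ * r)) := by
        rw [map_mul]
        refine IsUnit.mul ?_ ((isUnit_germ_iff hyV r).2 (by
          by_contra hh; exact hry ((mem_primeIdealOf hV hyV r).2 hh)))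
        have h := (isUnit_germ_iff hyV _).2 (hWk y hy.1).2
        rw [map_prod] at h
        exact IsUnit.prod_iff.1 h (⟨r, hrG⟩ : G) (Finset.mem_univ _)
      obtain ⟨v, hv⟩ := hu'.exists_left_inv
      refine ⟨v • ((ZClos.H0 Z).obj F).presheaf.germ V y hyV ((ZClos.rhoApp Z F).app V (s ⟨r, hrG⟩)), ?_⟩
      rw [TopCat.Presheaf.germ_res_apply, TopCat.Presheaf.germ_res_apply, smul_comm, ← germ_smul',
        ← Scheme.Modules.Hom.app_smul, ← hus ⟨r, hrG⟩, Scheme.Modules.Hom.app_smul, germ_smul',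
        smul_smul, hv, one_smul])
  obtain ⟨t, ht⟩ := ((isZClosed_iff_res Z _).1 (isZClosed_H0 F) T W).2 e
  have h2 : X.presheaf.map (homOfLE hWV).op a₀ • t =
      ((ZClos.H0 Z).obj F).presheaf.map (homOfLE hWV).op ((ZClos.rhoApp Z F).app V m₀) := by
    refine ((isZClosed_iff_res Z _).1 (isZClosed_H0 F) T W).1 ?_
    show ((ZClos.H0 Z).obj F).presheaf.map (homOfLE inf_le_left).op _ =
      ((ZClos.H0 Z).obj F).presheaf.map (homOfLE inf_le_left).op _
    rw [Scheme.Modules.map_smul,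
      show ((ZClos.H0 Z).obj F).presheaf.map (homOfLE (inf_le_left : W ⊓ T.U ≤ W)).op t = e from ht,
      ← ConcreteCategory.comp_apply, ← Functor.map_comp, ← ConcreteCategory.comp_apply,
      ← Functor.map_comp]
    exact he
  have h3 := congrArg (((ZClos.H0 Z).obj F).presheaf.germ W z hzW) h2
  rw [germ_smul', TopCat.Presheaf.germ_res_apply, TopCat.Presheaf.germ_res_apply] at h3
  obtain ⟨f, hf⟩ := ((isZClosedAt_iff_rhoL Z F z).1 hbij).2 (((ZClos.H0 Z).obj F).presheaf.germ W z hzW t)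
  rw [← hf, ← map_smul, ← RefHull.stalkMapₗ_germ (ZClos.rhoApp Z F) z hz m₀] at h3
  have h4 := ((isZClosedAt_iff_rhoL Z F z).1 hbij).1 h3
  obtain ⟨vc, hvc⟩ := ((isUnit_germ_iff hz tc).2 htc).exists_left_inv
  refine ⟨(vc * X.presheaf.germ V z hz ta) • f, ?_⟩
  calc c = (vc * X.presheaf.germ V z hz tc) • c := by rw [hvc, one_smul]
    _ = vc • X.presheaf.germ V z hz a₀ • f := by rw [mul_smul, hm₀, h4]
    _ = _ := by rw [← ha₀, smul_smul, smul_smul]; congr 1; ring

/-- Closedness at a point of `Z` gives depth two. -/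
theorem two_le_depth_of_bijective {Z : Set X} (hZ : StableUnderSpecialization Z) {F : X.Modules}
    (hF : Coh.IsCoh F) {z : X} (hzZ : z ∈ Z) (hbij : ZClos.IsZClosedAt Z F z) :
    (2 : ℕ∞) ≤ LocCoh.depth (X.presheaf.stalk z) (F.presheaf.stalk z) := by
  haveI := finite_stalk hF z
  by_cases hM : Nontrivial (F.presheaf.stalk z)
  · have hne := H4Depth.maximalIdeal_smul_top_ne_top (R := X.presheaf.stalk z) (M := F.presheaf.stalk z)
    have h1 := (isZPureAt_iff_depth hZ hF z).1 hbij.1 z (specializes_refl z) hzZ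
    obtain ⟨a, ha, hreg⟩ := (H4Depth.one_le_idealDepth_iff hne).1 h1
    rw [LocCoh.depth, ← H4Depth.idealDepth_quotSMulTop_add_one ha hreg,
      show (2 : ℕ∞) = 1 + 1 from rfl]
    refine add_le_add_left ((one_le_depth_iff _).2 fun hass => ?_) 1
    obtain ⟨-, q, hq⟩ := (isAssociatedPrime_iff).1 hass
    obtain ⟨c, rfl⟩ := Submodule.Quotient.mk_surjective _ q
    have hc : ∀ r ∈ maximalIdeal (X.presheaf.stalk z), ∃ e, r • c = a • e := by
      intro r hr
      rw [hq, Submodule.mem_colon_singleton, Submodule.mem_bot, ← Submodule.Quotient.mk_smul,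
        Submodule.Quotient.mk_eq_zero, Submodule.mem_smul_pointwise_iff_exists] at hr
      obtain ⟨e, -, he⟩ := hr
      exact ⟨e, he.symm⟩
    obtain ⟨e, rfl⟩ := exists_eq_smul_of_bijective hZ hF hzZ hbij hreg c hc
    refine (maximalIdeal.isMaximal (X.presheaf.stalk z)).ne_top (hq.trans ?_)
    rw [Ideal.eq_top_iff_one, Submodule.mem_colon_singleton, Submodule.mem_bot, one_smul,
      Submodule.Quotient.mk_eq_zero]
    exact Submodule.smul_mem_pointwise_smul e a ⊤ trivial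
  · haveI := not_nontrivial_iff_subsingleton.1 hM
    rw [LocCoh.depth, LocCoh.idealDepth, if_pos (Subsingleton.elim _ _)]
    exact le_top

/-- Closedness passes to generizations. -/
theorem isZClosedAt_of_specializes {Z : Set X} (hZ : StableUnderSpecialization Z) {F : X.Modules}
    (hF : Coh.IsQCoh F) {z x : X} (h : z ⤳ x) (hx : ZClos.IsZClosedAt Z F x) :
    ZClos.IsZClosedAt Z F z := by
  refine ⟨(isZPureAt_iff_ass hZ F hF z).2 fun w hw hwz =>
    (isZPureAt_iff_ass hZ F hF x).1 hx.1 w hw (hwz.trans h), fun c => ?_⟩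
  obtain ⟨V, hV, hxV, -⟩ := exists_isAffineOpen_mem_and_subset (U := (⊤ : X.Opens)) (x := x) trivial
  have hzV : z ∈ V := h.mem_open V.2 hxV
  obtain ⟨t, s, ht, hts⟩ := exists_smul_germ_eq _ (isQCoh_H0 Z F hF) hV hzV c
  obtain ⟨w, hw⟩ := ((isZClosedAt_iff_rhoL Z F x).1 hx).2 (((ZClos.H0 Z).obj F).presheaf.germ V x hxV s)
  obtain ⟨t', s₀, ht', hts'⟩ := exists_smul_germ_eq F hF hV hxV w
  have h1 : ((ZClos.H0 Z).obj F).presheaf.germ V x hxV (t' • s) =
      ((ZClos.H0 Z).obj F).presheaf.germ V x hxV ((ZClos.rhoApp Z F).app V s₀) := by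
    rw [germ_smul', ← hw, ← map_smul, hts', RefHull.stalkMapₗ_germ]
  have h2 := congrArg (((ZClos.H0 Z).obj F).presheaf.stalkSpecializes h) h1
  rw [germ_spec_mod, germ_spec_mod, germ_smul', ← hts, smul_smul,
    ← RefHull.stalkMapₗ_germ (ZClos.rhoApp Z F) z hzV s₀] at h2
  obtain ⟨v, hv⟩ := (((isUnit_germ_iff hzV t').2 (h.mem_open (X.basicOpen t').2 ht')).mul
    ((isUnit_germ_iff hzV t).2 ht)).exists_left_inv
  refine ⟨v • F.presheaf.germ V z hzV s₀, ?_⟩
  show rhoL Z F z _ = c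
  rw [map_smul, ← h2, smul_smul, hv, one_smul]

/-- Depth two gives closedness. -/
theorem isZClosedAt_of_depth {Z : Set X} (hZ : StableUnderSpecialization Z) {F : X.Modules}
    (hF : Coh.IsCoh F) (x : X) (hd : ∀ x' : X, x' ⤳ x → x' ∈ Z →
      (2 : ℕ∞) ≤ LocCoh.depth (X.presheaf.stalk x') (F.presheaf.stalk x')) :
    ZClos.IsZClosedAt Z F x := by
  have hinj : ∀ z, z ⤳ x → Function.Injective (rhoL Z F z) := fun z hz =>
    (isZPureAt_iff_depth hZ hF z).2 fun x' h1 h2 => le_trans one_le_two (hd x' (h1.trans hz) h2)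
  refine ⟨hinj x (specializes_refl x), fun c => ?_⟩
  show ∃ m, rhoL Z F x m = c
  obtain ⟨V, hV, hxV, -⟩ := exists_isAffineOpen_mem_and_subset (U := (⊤ : X.Opens)) (x := x) trivial
  haveI : IsNoetherianRing Γ(X, V) := IsLocallyNoetherian.component_noetherian ⟨V, hV⟩
  obtain ⟨t, s, ht, hts⟩ := exists_smul_germ_eq _ (isQCoh_H0 Z F hF.1) hV hxV c
  let f : Γ(F, V) →ₗ[Γ(X, V)] Γ((ZClos.H0 Z).obj F, V) :=
    { toFun := (ZClos.rhoApp Z F).app V, map_add' := map_add _,
      map_smul' := fun a m => (ZClos.rhoApp Z F).app_smul a m }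
  have hrange : ∀ (z : X) (hz : z ∈ V) (n : Γ((ZClos.H0 Z).obj F, V)),
      (∃ m, rhoL Z F z m = ((ZClos.H0 Z).obj F).presheaf.germ V z hz n) ↔
        ∃ a : Γ(X, V), z ∈ X.basicOpen a ∧ a • n ∈ LinearMap.range f := by
    intro z hz n
    constructor
    · rintro ⟨m, hm⟩
      obtain ⟨a, m₀, ha, ham⟩ := exists_smul_germ_eq F hF.1 hV hz m
      have h1 : ((ZClos.H0 Z).obj F).presheaf.germ V z hz (a • n - f m₀) = 0 := by
        rw [map_sub, sub_eq_zero, germ_smul', ← hm, ← map_smul, ham]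
        exact RefHull.stalkMapₗ_germ _ z hz m₀
      obtain ⟨b, hb, hbn⟩ := exists_smul_eq_zero_of_germ _ (isQCoh_H0 Z F hF.1) hV hz h1
      rw [smul_sub, sub_eq_zero, smul_smul, ← map_smul] at hbn
      exact ⟨b * a, mem_basicOpen_mul hb ha, ⟨_, hbn.symm⟩⟩
    · rintro ⟨a, ha, m₀, hm₀⟩
      obtain ⟨v, hv⟩ := ((isUnit_germ_iff hz a).2 ha).exists_left_inv
      refine ⟨v • F.presheaf.germ V z hz m₀, ?_⟩
      rw [map_smul, RefHull.stalkMapₗ_germ,
        show (ZClos.rhoApp Z F).app V m₀ = a • n from hm₀, germ_smul', smul_smul, hv, one_smul]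
  suffices h : ∃ m, rhoL Z F x m = ((ZClos.H0 Z).obj F).presheaf.germ V x hxV s by
    obtain ⟨m, hm⟩ := h
    obtain ⟨v, hv⟩ := ((isUnit_germ_iff hxV t).2 ht).exists_left_inv
    exact ⟨v • m, by rw [map_smul, hm, ← hts, smul_smul, hv, one_smul]⟩
  by_contra hns
  let J : Γ(X, V) → Ideal Γ(X, V) := fun r =>
    (LinearMap.range f).comap (LinearMap.toSpanSingleton Γ(X, V) Γ((ZClos.H0 Z).obj F, V) (r • s))
  have hJ : ∀ r a, a ∈ J r ↔ (a * r) • s ∈ LinearMap.range f := fun r a => by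
    rw [mul_smul]; rfl
  let P := (hV.primeIdealOf ⟨x, hxV⟩).asIdeal
  have hP : P.IsPrime := (hV.primeIdealOf ⟨x, hxV⟩).isPrime
  have hne : {I : Ideal Γ(X, V) | ∃ r, I = J r ∧ I ≤ P}.Nonempty :=
    ⟨J 1, 1, rfl, fun a ha => (mem_primeIdealOf hV hxV a).2 fun hax =>
      hns ((hrange x hxV s).2 ⟨a, hax, by simpa using (hJ 1 a).1 ha⟩)⟩
  obtain ⟨Q, ⟨r, rfl, hrP⟩, hmax⟩ := set_has_maximal_iff_noetherian.2 inferInstance _ hne
  have hQ : (J r).IsPrime := by
    refine ⟨fun h => hP.ne_top (top_le_iff.1 (h ▸ hrP)), fun {a b} hab => ?_⟩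
    by_contra hcon
    push_neg at hcon
    obtain ⟨ha, hb⟩ := hcon
    have hle1 : ∀ v, J r ≤ J (v * r) := fun v w hw => by
      rw [hJ] at hw ⊢
      rw [show w * (v * r) = v * (w * r) by ring, mul_smul]
      exact Submodule.smul_mem _ _ hw
    by_cases h1 : J (a * r) ≤ P
    · have h2 : J r = J (a * r) := eq_of_le_of_not_lt (hle1 a) (hmax _ ⟨_, rfl, h1⟩)
      refine hb (h2.symm ▸ ?_)
      rw [hJ, show b * (a * r) = a * b * r by ring]
      exact (hJ r _).1 hab
    · obtain ⟨w, hw, hwP⟩ := SetLike.not_le_iff_exists.1 h1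
      have h3 : J (w * r) ≤ P := fun v hv => by
        have : v * w ∈ J r := by
          rw [hJ] at hv ⊢
          rwa [show v * w * r = v * (w * r) by ring]
        exact (hP.mem_or_mem (hrP this)).resolve_right hwP
      have h2 : J r = J (w * r) := eq_of_le_of_not_lt (hle1 w) (hmax _ ⟨_, rfl, h3⟩)
      refine ha (h2.symm ▸ ?_)
      rw [hJ, show a * (w * r) = w * (a * r) by ring]
      exact (hJ _ _).1 hw
  obtain ⟨⟨z, hzV⟩, hz⟩ := H29Blow.exists_primeIdealOf_eq hV ⟨J r, hQ⟩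
  have hzp : (hV.primeIdealOf ⟨z, hzV⟩).asIdeal = J r := congrArg PrimeSpectrum.asIdeal hz
  have hzx : z ⤳ x := (H29Blow.primeIdealOf_le_iff hV ⟨z, hzV⟩ ⟨x, hxV⟩).1 (hzp.le.trans hrP)
  let e : ((ZClos.H0 Z).obj F).presheaf.stalk z :=
    ((ZClos.H0 Z).obj F).presheaf.germ V z hzV (r • s)
  have he : ¬ ∃ m, rhoL Z F z m = e := fun h => by
    obtain ⟨a, ha, ham⟩ := (hrange z hzV _).1 h
    refine (mem_primeIdealOf hV hzV a).1 (hzp.ge ?_) ha
    rw [hJ, mul_smul]; exact ham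
  have hme : ∀ a ∈ maximalIdeal (X.presheaf.stalk z), ∃ m, rhoL Z F z m = a • e := by
    intro a ha
    obtain ⟨ta, a₀, hta, ha₀⟩ := exists_smul_germ_ring hV hzV a
    have h1 : a₀ ∈ J r := by
      rw [← hzp, ← germ_mem_maximal_iff hV hzV, ← ha₀]
      exact Ideal.mul_mem_left _ _ ha
    obtain ⟨m₀, hm₀⟩ := (hJ r a₀).1 h1
    obtain ⟨v, hv⟩ := ((isUnit_germ_iff hzV ta).2 hta).exists_left_inv
    refine ⟨v • F.presheaf.germ V z hzV m₀, ?_⟩
    rw [map_smul, RefHull.stalkMapₗ_germ,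
      show (ZClos.rhoApp Z F).app V m₀ = (a₀ * r) • s from hm₀, mul_smul, germ_smul', smul_smul]
    congr 1
    rw [← ha₀, ← mul_assoc, hv, one_mul]
  have hzZ : z ∈ Z := by
    by_contra hzZ
    exact he ((rhoStalk_bijective F hzZ).2 e)
  haveI := finite_stalk hF z
  by_cases hM : Nontrivial (F.presheaf.stalk z)
  · have hne' := H4Depth.maximalIdeal_smul_top_ne_top (R := X.presheaf.stalk z) (M := F.presheaf.stalk z)
    obtain ⟨rs, hlen, hmem, hregs⟩ :=
      (H4Depth.le_idealDepth_iff_exists hne' (n := 2)).1 (hd z hzx hzZ)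
    match rs, hlen with
    | [a, b], _ =>
      rw [RingTheory.Sequence.isWeaklyRegular_cons_iff, RingTheory.Sequence.isWeaklyRegular_cons_iff] at hregs
      obtain ⟨ha, hb, -⟩ := hregs
      obtain ⟨m, hm⟩ := hme a (hmem a (by simp))
      obtain ⟨m', hm'⟩ := hme b (hmem b (by simp))
      have h1 : b • m = a • m' := hinj z hzx (by rw [map_smul, map_smul, hm, hm', smul_comm])
      have h2 : (Submodule.Quotient.mk m : QuotSMulTop a (F.presheaf.stalk z)) = 0 :=
        hb.right_eq_zero_of_smul (by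
          rw [← Submodule.Quotient.mk_smul, Submodule.Quotient.mk_eq_zero, h1]
          exact Submodule.smul_mem_pointwise_smul m' a ⊤ trivial)
      rw [Submodule.Quotient.mk_eq_zero, Submodule.mem_smul_pointwise_iff_exists] at h2
      obtain ⟨n, -, rfl⟩ := h2
      rw [map_smul] at hm
      -- `a` stays regular on the closure at `z`
      obtain ⟨ta, a₀, hta, ha₀⟩ := exists_smul_germ_ring hV hzV a
      obtain ⟨k, hk, hkr⟩ := exists_regular_nhd_H0 hZ hF hV hzV a₀ (by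
        rw [← ha₀]; exact (((isUnit_germ_iff hzV ta).2 hta).isSMulRegular _).mul ha)
      have h3 := hkr z hzV hk
      rw [← ha₀] at h3
      exact he ⟨n, h3.of_mul hm⟩
  · haveI := not_nontrivial_iff_subsingleton.1 hM
    refine ass_H0_notMem hZ F hF.1 (z := z) ⟨(maximalIdeal.isMaximal _).isPrime, e, ?_⟩ hzZ
    have he0 : e ≠ 0 := fun h => he ⟨0, by rw [map_zero, h]⟩
    refine (maximalIdeal.isMaximal (X.presheaf.stalk z)).eq_of_le ?_ fun a ha => Ideal.le_radical ?_
    · rw [Ne, Ideal.radical_eq_top, Ideal.eq_top_iff_one, Submodule.mem_colon_singleton,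
        Submodule.mem_bot, one_smul]
      exact he0
    · obtain ⟨m, hm⟩ := hme a ha
      rw [Submodule.mem_colon_singleton, Submodule.mem_bot, ← hm, Subsingleton.elim m 0, map_zero]

/-- Closedness at a point is depth at least two at the generizations in `Z`. -/
theorem isZClosedAt_iff_depth {Z : Set X} (hZ : StableUnderSpecialization Z) {F : X.Modules}
    (hF : Coh.IsCoh F) (x : X) :
    ZClos.IsZClosedAt Z F x ↔ ∀ x' : X, x' ⤳ x → x' ∈ Z →
      (2 : ℕ∞) ≤ LocCoh.depth (X.presheaf.stalk x') (F.presheaf.stalk x') :=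
  ⟨fun h _ h1 h2 => two_le_depth_of_bijective hZ hF h2 (isZClosedAt_of_specializes hZ hF.1 h1 h),
    isZClosedAt_of_depth hZ hF x⟩

end Groth.Agent.H17.ZDepth
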