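import Groth.Agent.H17.ZDepth.Two
import Groth.Agent.H10Coh.FinType2

/-!
# Consequences for the closure: depth, `(S₂)` loci, coherence of direct images
-/

set_option autoImplicit false
set_option linter.style.haveILetI false
universe u

open CategoryTheory CategoryTheory.Limits AlgebraicGeometry TopologicalSpace Opposite

namespace Groth.Agent.H17.ZDepth

open Groth.Agent.H26ZClos Groth.Agent.H17.AssPts IsLocalRing

variable {X : Scheme.{u}}

theorem stableUnderSpecialization_dimGe (n : ℕ) : StableUnderSpecialization (ZClos.dimGe X n) := by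
  intro y x h hy
  refine le_trans (show (n : WithBot ℕ∞) ≤ _ from hy) ?_
  rw [ringKrullDim_stalk_eq_coheight, ringKrullDim_stalk_eq_coheight]
  exact WithBot.coe_le_coe.2 (Order.coheight_anti h)

variable [IsLocallyNoetherian X] {Z : Set X}

theorem two_le_depth_H0 (hZ : StableUnderSpecialization Z) (F : X.Modules)
    (hH : Coh.IsCoh ((ZClos.H0 Z).obj F)) {x : X} (hx : x ∈ Z) :
    (2 : ℕ∞) ≤ LocCoh.depth (X.presheaf.stalk x) (((ZClos.H0 Z).obj F).presheaf.stalk x) :=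
  (isZClosedAt_iff_depth hZ hH x).1 (isZClosedAt_of_isZClosed _ (isZClosed_H0 F) x) x (specializes_refl x) hx

theorem two_le_dim_quot (hZ : StableUnderSpecialization Z) (F : X.Modules)
    (hH : Coh.IsCoh ((ZClos.H0 Z).obj F)) {x : X} (hx : x ∈ AssSch.Ass F) (hxZ : x ∉ Z) {y : X}
    (hy : y ∈ Z) (h : x ⤳ y) :
    (2 : WithBot ℕ∞) ≤ ringKrullDim (X.presheaf.stalk y ⧸
      (maximalIdeal (X.presheaf.stalk x)).comap (X.presheaf.stalkSpecializes h).hom) := by
  haveI := finite_stalk hH y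
  have hG : x ∈ AssSch.Ass ((ZClos.H0 Z).obj F) :=
    IsAssociatedPrime.map_of_injective (f := rhoL Z F x) hx (rhoStalk_bijective F hxZ).1
  refine le_trans ?_ (H4Depth.depth_le_ringKrullDim_quotient_of_mem_associatedPrimes
    (mem_associatedPrimes_stalk _ hH.1 hG h))
  exact WithBot.coe_le_coe.2 (two_le_depth_H0 hZ F hH hy)

/-- Off `Z^(2)`, a coherent module without associated points of codimension one is `(S₂)`. -/
theorem min_le_depth_of_notMem_dimGe {F : X.Modules} (hF : Coh.IsCoh F) {x : X}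
    (hx : x ∉ ZClos.dimGe X 2) (hass : x ∈ AssSch.Ass F → ringKrullDim (X.presheaf.stalk x) ≠ 1) :
    min (2 : WithBot ℕ∞) (Module.supportDim (X.presheaf.stalk x) (F.presheaf.stalk x)) ≤
      ((LocCoh.depth (X.presheaf.stalk x) (F.presheaf.stalk x) : ℕ∞) : WithBot ℕ∞) := by
  have hlt : ¬ ((2 : ℕ) : WithBot ℕ∞) ≤ ringKrullDim (X.presheaf.stalk x) := hx
  refine (min_le_right _ _).trans ((Module.supportDim_le_ringKrullDim _ _).trans ?_)
  obtain ⟨d, hd⟩ := WithBot.ne_bot_iff_exists.1 (ringKrullDim_ne_bot (R := X.presheaf.stalk x))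
  rw [← hd] at hlt hass ⊢
  have hd2 : d < 2 := not_le.1 fun h => hlt (WithBot.coe_le_coe.2 h)
  refine WithBot.coe_le_coe.2 ?_
  by_cases h : x ∈ AssSch.Ass F
  · have h1 : d ≠ 1 := fun h1 => hass h (by rw [h1]; rfl)
    have : d = 0 := by
      induction d using ENat.recTopCoe with
      | top => simp at hd2
      | coe n =>
        have : n < 2 := by exact_mod_cast hd2
        have : n ≠ 1 := fun hn => h1 (by rw [hn]; rfl)
        obtain rfl : n = 0 := by omega
        rfl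
    rw [this]; exact zero_le'
  · exact (Order.le_of_lt_add_one (by rw [one_add_one_eq_two]; exact hd2)).trans ((one_le_depth_stalk_iff hF x).2 h)

theorem hasS2_H0 {F : X.Modules} (hass : ∀ x ∈ AssSch.Ass F, ringKrullDim (X.presheaf.stalk x) ≠ 1)
    (hH : Coh.IsCoh ((ZClos.H0 (ZClos.dimGe X 2)).obj F)) (x : X) :
    min (2 : WithBot ℕ∞) (Module.supportDim (X.presheaf.stalk x) (((ZClos.H0 (ZClos.dimGe X 2)).obj F).presheaf.stalk x)) ≤
      ((LocCoh.depth (X.presheaf.stalk x) (((ZClos.H0 (ZClos.dimGe X 2)).obj F).presheaf.stalk x) : ℕ∞) : WithBot ℕ∞) := by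
  by_cases hx : x ∈ ZClos.dimGe X 2
  · exact (min_le_left _ _).trans (WithBot.coe_le_coe.2 (two_le_depth_H0 (stableUnderSpecialization_dimGe 2) F hH hx))
  · refine min_le_depth_of_notMem_dimGe hH hx fun h => hass x ?_
    exact IsAssociatedPrime.map_of_injective
      (f := (LinearEquiv.ofBijective (rhoL (ZClos.dimGe X 2) F x) (rhoStalk_bijective F hx)).symm.toLinearMap)
      h (LinearEquiv.injective _)

/-- The closed locus is open. -/
theorem isOpen_setOf_isZClosedAt (hZ : StableUnderSpecialization Z) {F : X.Modules} (hF : Coh.IsCoh F)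
    (hH : Coh.IsCoh ((ZClos.H0 Z).obj F)) : IsOpen {x : X | ZClos.IsZClosedAt Z F x} := by
  classical
  rw [isOpen_iff_forall_mem_open]
  intro x hx
  obtain ⟨V, hV, hxV, -⟩ := exists_isAffineOpen_mem_and_subset (U := (⊤ : X.Opens)) (x := x) trivial
  haveI : IsNoetherianRing Γ(X, V) := IsLocallyNoetherian.component_noetherian ⟨V, hV⟩
  haveI : Module.Finite Γ(X, V) Γ(F, V) := @H10Coh.finite_sections _ F hF.1 hF.2 _ hV
  haveI : Module.Finite Γ(X, V) Γ((ZClos.H0 Z).obj F, V) := @H10Coh.finite_sections _ _ hH.1 hH.2 _ hV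
  let f : Γ(F, V) →ₗ[Γ(X, V)] Γ((ZClos.H0 Z).obj F, V) :=
    { toFun := (ZClos.rhoApp Z F).app V, map_add' := map_add _,
      map_smul' := fun a m => (ZClos.rhoApp Z F).app_smul a m }
  obtain ⟨G, hG⟩ := Module.Finite.fg_top (R := Γ(X, V)) (M := Γ((ZClos.H0 Z).obj F, V))
  obtain ⟨K, hK⟩ := IsNoetherian.noetherian (LinearMap.ker f)
  have hg : ∀ g : G, ∃ a : Γ(X, V), x ∈ X.basicOpen a ∧ a • g.1 ∈ LinearMap.range f := by
    intro g
    obtain ⟨m, hm⟩ := ((isZClosedAt_iff_rhoL Z F x).1 hx).2 (((ZClos.H0 Z).obj F).presheaf.germ V x hxV g.1)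
    obtain ⟨a, m₀, ha, ham⟩ := exists_smul_germ_eq F hF.1 hV hxV m
    have h1 : ((ZClos.H0 Z).obj F).presheaf.germ V x hxV (a • g.1 - f m₀) = 0 := by
      rw [map_sub, sub_eq_zero, germ_smul', ← hm, ← map_smul, ham]
      exact RefHull.stalkMapₗ_germ _ x hxV m₀
    obtain ⟨b, hb, hbn⟩ := exists_smul_eq_zero_of_germ _ hH.1 hV hxV h1
    rw [smul_sub, sub_eq_zero, smul_smul, ← map_smul] at hbn
    exact ⟨b * a, mem_basicOpen_mul hb ha, ⟨_, hbn.symm⟩⟩
  have hk : ∀ k : K, ∃ a : Γ(X, V), x ∈ X.basicOpen a ∧ a • k.1 = 0 := by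
    intro k
    have hfk : (ZClos.rhoApp Z F).app V k.1 = 0 := hK.le (Submodule.subset_span k.2)
    refine exists_smul_eq_zero_of_germ F hF.1 hV hxV (((isZClosedAt_iff_rhoL Z F x).1 hx).1 ?_)
    rw [RefHull.stalkMapₗ_germ, hfk, map_zero, map_zero]
  choose a ha hag using hg
  choose b hb hbk using hk
  let u : Γ(X, V) := (∏ g : G, a g) * ∏ k : K, b k
  have hu : x ∈ X.basicOpen u := by
    rw [← isUnit_germ_iff hxV, map_mul, map_prod, map_prod]
    exact (IsUnit.prod_iff.2 fun g _ => (isUnit_germ_iff hxV _).2 (ha g)).mul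
      (IsUnit.prod_iff.2 fun k _ => (isUnit_germ_iff hxV _).2 (hb k))
  have hsurj : ∀ n, u • n ∈ LinearMap.range f := by
    intro n
    have hle : (⊤ : Submodule Γ(X, V) Γ((ZClos.H0 Z).obj F, V)) ≤
        (LinearMap.range f).comap (LinearMap.lsmul _ _ u) := by
      rw [← hG, Submodule.span_le]
      intro g hg
      show u • g ∈ LinearMap.range f
      rw [show u = (((Finset.univ.erase (⟨g, hg⟩ : G)).prod a) * ∏ k : K, b k) * a ⟨g, hg⟩ by
        show _ * _ = _
        rw [← Finset.mul_prod_erase Finset.univ a (Finset.mem_univ (⟨g, hg⟩ : G))]; ring, mul_smul]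
      exact Submodule.smul_mem _ _ (hag ⟨g, hg⟩)
    exact hle (Submodule.mem_top (x := n))
  have hker : ∀ m, f m = 0 → u • m = 0 := by
    intro m hm
    have hle : LinearMap.ker f ≤ LinearMap.ker (LinearMap.lsmul Γ(X, V) Γ(F, V) u) := by
      rw [← hK, Submodule.span_le]
      intro k hk
      rw [SetLike.mem_coe, LinearMap.mem_ker, LinearMap.lsmul_apply,
        show u = ((∏ g : G, a g) * (Finset.univ.erase (⟨k, hk⟩ : K)).prod b) * b ⟨k, hk⟩ by
          show _ * _ = _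
          rw [← Finset.mul_prod_erase Finset.univ b (Finset.mem_univ (⟨k, hk⟩ : K))]; ring,
        mul_smul, hbk ⟨k, hk⟩, smul_zero]
    exact hle hm
  refine ⟨X.basicOpen u, fun y hy => ?_, (X.basicOpen u).2, hu⟩
  have hyV : y ∈ V := X.basicOpen_le u hy
  refine ⟨(injective_iff_map_eq_zero (rhoL Z F y)).2 fun m hm => ?_, fun c => ?_⟩
  · obtain ⟨t, s, ht, hts⟩ := exists_smul_germ_eq F hF.1 hV hyV m
    have h1 : ((ZClos.H0 Z).obj F).presheaf.germ V y hyV (f s) = 0 := by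
      show ((ZClos.H0 Z).obj F).presheaf.germ V y hyV ((ZClos.rhoApp Z F).app V s) = 0
      rw [← RefHull.stalkMapₗ_germ (ZClos.rhoApp Z F) y hyV s, ← hts, map_smul, hm, smul_zero]
    obtain ⟨t', ht', hts'⟩ := exists_smul_eq_zero_of_germ _ hH.1 hV hyV h1
    have h2 : u • t' • s = 0 := hker _ (by rw [map_smul, hts'])
    rw [smul_smul] at h2
    have h3 := germ_eq_zero_of_smul F hyV (mem_basicOpen_mul hy ht') h2
    rw [← hts] at h3
    exact ((isUnit_germ_iff hyV t).2 ht).smul_eq_zero.1 h3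
  · obtain ⟨t, s, ht, hts⟩ := exists_smul_germ_eq _ hH.1 hV hyV c
    obtain ⟨m₀, hm₀⟩ := hsurj s
    obtain ⟨v, hv⟩ := (((isUnit_germ_iff hyV u).2 hy).mul ((isUnit_germ_iff hyV t).2 ht)).exists_left_inv
    refine ⟨v • F.presheaf.germ V y hyV m₀, ?_⟩
    show rhoL Z F y _ = c
    rw [map_smul, RefHull.stalkMapₗ_germ, show (ZClos.rhoApp Z F).app V m₀ = u • s from hm₀,
      germ_smul', ← hts, smul_smul, smul_smul, mul_assoc, hv, one_smul]

theorem isZClosed_restrict_of_forall (hZ : StableUnderSpecialization Z) (F : X.Modules) (V : X.Opens)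
    (h : ∀ x ∈ V, ZClos.IsZClosedAt Z F x) :
    ZClos.IsZClosed (V.ι.base ⁻¹' Z) ((Scheme.Modules.restrictFunctor V.ι).obj F) := by
  rw [isZClosed_restrict_iff hZ]
  intro T W hWV
  have hb : ∀ W' ≤ V, Function.Bijective ((ZClos.rhoApp Z F).app W') := fun W' hW' =>
    TopCat.Presheaf.app_bijective_of_stalkFunctor_map_bijective
      (F := ⟨F.presheaf, F.isSheaf⟩) (G := ⟨((ZClos.H0 Z).obj F).presheaf, ((ZClos.H0 Z).obj F).isSheaf⟩)
      ⟨(ZClos.rhoApp Z F).mapPresheaf⟩ W' fun x hx => h x (hW' hx)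
  have hsq : ∀ s, (ZClos.rhoApp Z F).app (W ⊓ T.U) (res F (inf_le_left : W ⊓ T.U ≤ W) s) =
      res ((ZClos.H0 Z).obj F) (inf_le_left : W ⊓ T.U ≤ W) ((ZClos.rhoApp Z F).app W s) :=
    fun s => app_res _ _ s
  have hG := (isZClosed_iff_res Z _).1 (isZClosed_H0 F) T W
  refine (Function.Bijective.of_comp_iff' (hb _ (inf_le_left.trans hWV)) _).1 ?_
  rw [show ((ZClos.rhoApp Z F).app (W ⊓ T.U) : _ → _) ∘ res F (inf_le_left : W ⊓ T.U ≤ W) =
    res ((ZClos.H0 Z).obj F) (inf_le_left : W ⊓ T.U ≤ W) ∘ (ZClos.rhoApp Z F).app W from funext hsq]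
  exact hG.comp (hb W hWV)

omit [IsLocallyNoetherian X] in
theorem sec_res_top {W : X.Opens} (F : X.Modules) (T : ZClos.Cl Z) (s : Γ(F, W)) :
    sec F T W (res F (inf_le_left : W ⊓ T.U ≤ W) s) = (ZClos.rhoApp Z F).app W s := by
  rw [ZClos.rhoApp_eq Z F T]
  show (colimit.ι ((ZClos.diagram Z).obj F) T).app W _ =
    (colimit.ι ((ZClos.diagram Z).obj F) T).app W ((ZClos.toDiagram Z F T).app W s)
  rw [toDiagram_app]
  exact congrArg _ (res_res F _ _ s)

omit [IsLocallyNoetherian X] in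
theorem sec_top {W : X.Opens} (F : X.Modules) (s : Γ(F, W)) :
    sec F (⊥ : ZClos.Cl Z) W (res F (inf_le_left : W ⊓ (⊥ : ZClos.Cl Z).U ≤ W) s) =
      (ZClos.rhoApp Z F).app W s :=
  sec_res_top F ⊥ s

theorem isZClosedAt_of_restrict (hZ : StableUnderSpecialization Z) (F : X.Modules) (V : X.Opens)
    (h : ZClos.IsZClosed (V.ι.base ⁻¹' Z) ((Scheme.Modules.restrictFunctor V.ι).obj F)) {x : X}
    (hx : x ∈ V) : ZClos.IsZClosedAt Z F x := by
  rw [isZClosed_restrict_iff hZ] at h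
  refine ⟨(injective_iff_map_eq_zero (rhoL Z F x)).2 fun m hm => ?_, fun c => ?_⟩
  · obtain ⟨W, hxW, s, rfl⟩ := F.presheaf.exists_germ_eq m
    have h1 : ((ZClos.H0 Z).obj F).presheaf.germ (W ⊓ V) x ⟨hxW, hx⟩
        ((ZClos.rhoApp Z F).app (W ⊓ V) (res F (inf_le_left : W ⊓ V ≤ W) s)) = 0 := by
      rw [← RefHull.stalkMapₗ_germ (ZClos.rhoApp Z F) x]
      erw [TopCat.Presheaf.germ_res_apply]
      exact hm
    rw [← sec_top F (res F (inf_le_left : W ⊓ V ≤ W) s)] at h1
    obtain ⟨T', hT', W', hW', hxW', h0⟩ := exists_res_eq_zero F (x := x) (show x ∈ W ⊓ V from ⟨hxW, hx⟩) _ h1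
    rw [res_res, res_res] at h0
    have h2 : res F (hW'.trans inf_le_left) s = 0 := (h T' W' (hW'.trans inf_le_right)).1 (by
      rw [res_res, h0, res_zero])
    rw [← TopCat.Presheaf.germ_res_apply F.presheaf (homOfLE (hW'.trans inf_le_left)) x hxW' s]
    exact (congrArg (F.presheaf.germ W' x hxW') h2).trans (map_zero _)
  · obtain ⟨W, hxW, a, rfl⟩ := ((ZClos.H0 Z).obj F).presheaf.exists_germ_eq c
    obtain ⟨T, W', hW', hxW', t, ht⟩ := exists_sec F (res _ (inf_le_left : W ⊓ V ≤ W) a) (x := x) (show x ∈ W ⊓ V from ⟨hxW, hx⟩)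
    obtain ⟨t', rfl⟩ := (h T W' (hW'.trans inf_le_right)).2 t
    refine ⟨F.presheaf.germ W' x hxW' t', ?_⟩
    show rhoL Z F x _ = _
    rw [RefHull.stalkMapₗ_germ, ← sec_res_top F T t', ← ht, res_res]
    exact TopCat.Presheaf.germ_res_apply _ _ x hxW' a

/-- `j_*(F|U)` is coherent for opens whose complement lies in `Z`. -/
theorem isCoh_resPush (hZ : StableUnderSpecialization Z) {F : X.Modules} (hF : Coh.IsCoh F)
    (hass : ∀ x ∈ AssSch.Ass F, x ∉ Z) (hH : Coh.IsCoh ((ZClos.H0 Z).obj F)) (T : ZClos.Cl Z) :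
    Coh.IsCoh ((ZClos.resPush T.U).obj F) := by
  have hinj : ∀ W, Function.Injective ((ZClos.rhoApp Z F).app W) := fun W =>
    TopCat.Presheaf.app_injective_of_stalkFunctor_map_injective
      (F := ⟨F.presheaf, F.isSheaf⟩) (ZClos.rhoApp Z F).mapPresheaf W fun x _ =>
      (isZPureAt_iff_ass hZ F hF.1 x).2 fun z hz _ => hass z hz
  haveI : Mono ((ZClos.resPush T.U).map (ZClos.rhoApp Z F)) := (mono_iff_app _).2 fun V => by
    rw [ZClos.resPush_map_app]; exact hinj _
  have hiso : IsIso (ZClos.toDiagram Z ((ZClos.H0 Z).obj F) T) :=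
    (isZClosed_iff_isIso Z _).1 (isZClosed_H0 F) T
  haveI : F.IsQuasicoherent := hF.1
  haveI := Scheme.Modules.isQuasicoherent_restrictFunctor T.U.ι F
  have hq : Coh.IsQCoh ((ZClos.resPush T.U).obj F) := H10Coh.isQuasicoherent_pushforward T.U.ι _
  let e : (ZClos.H0 Z).obj F ≅ (ZClos.resPush T.U).obj ((ZClos.H0 Z).obj F) := @asIso _ _ _ _ _ hiso
  exact H10Coh.isCoh_of_mono ((ZClos.resPush T.U).map (ZClos.rhoApp Z F) ≫ e.inv) hq hH

/-- The stalk of a module with full support has full support. -/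
theorem supportDim_stalk_eq (F : X.Modules) (hF : Coh.IsQCoh F)
    (hsupp : ∀ x : X, Nontrivial (F.presheaf.stalk x)) (x : X) :
    Module.supportDim (X.presheaf.stalk x) (F.presheaf.stalk x) = ringKrullDim (X.presheaf.stalk x) := by
  obtain ⟨V, hV, hxV, -⟩ := exists_isAffineOpen_mem_and_subset (U := (⊤ : X.Opens)) (x := x) trivial
  have h : Module.support (X.presheaf.stalk x) (F.presheaf.stalk x) = Set.univ := by
    refine Set.eq_univ_of_forall fun p => Module.mem_support_iff'.2 ?_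
    have hq : (p.asIdeal.comap (X.presheaf.germ V x hxV).hom).IsPrime := Ideal.IsPrime.comap _
    obtain ⟨⟨z, hzV⟩, hz⟩ := H29Blow.exists_primeIdealOf_eq hV ⟨_, hq⟩
    have hzp : (hV.primeIdealOf ⟨z, hzV⟩).asIdeal = p.asIdeal.comap (X.presheaf.germ V x hxV).hom :=
      congrArg PrimeSpectrum.asIdeal hz
    have hzx : z ⤳ x := (H29Blow.primeIdealOf_le_iff hV ⟨z, hzV⟩ ⟨x, hxV⟩).1 (by
      rw [hzp]
      intro a ha
      rw [← germ_mem_maximal_iff hV hxV]
      exact IsLocalRing.le_maximalIdeal p.isPrime.ne_top ha)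
    haveI := hsupp z
    obtain ⟨e, he⟩ := exists_ne (0 : F.presheaf.stalk z)
    obtain ⟨t, s, ht, hts⟩ := exists_smul_germ_eq F hF hV hzV e
    refine ⟨F.presheaf.germ V x hxV s, fun r hr h0 => ?_⟩
    obtain ⟨tr, r₀, htr, hr₀⟩ := exists_smul_germ_ring hV hxV r
    have hr' : z ∈ X.basicOpen r₀ := by
      by_contra hc
      have h1 := (mem_primeIdealOf hV hzV r₀).2 hc
      rw [hzp, Ideal.mem_comap, ← hr₀] at h1
      exact hr ((p.isPrime.mem_or_mem h1).resolve_left fun h2 =>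
        (IsLocalRing.le_maximalIdeal p.isPrime.ne_top h2) ((isUnit_germ_iff hxV tr).2 htr))
    have h1 : F.presheaf.germ V x hxV (r₀ • s) = 0 := by rw [germ_smul', ← hr₀, mul_smul, h0, smul_zero]
    have h2 := congrArg (F.presheaf.stalkSpecializes hzx) h1
    rw [germ_spec_mod, map_zero, germ_smul', ← hts, smul_smul] at h2
    exact he ((((isUnit_germ_iff hzV r₀).2 hr').mul ((isUnit_germ_iff hzV t).2 ht)).smul_eq_zero.1 h2)
  rw [Module.supportDim, h]
  exact Order.krullDim_eq_of_orderIso OrderIso.Set.univ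

end Groth.Agent.H17.ZDepth
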